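import Groth.Agent.EtTrivGen.Noeth
import Groth.Agent.EtTrivGen.ConsMod
import Groth.Agent.EtIntegralBC.Counit
import Groth.Prelude.Def_EtModD2

/-!
Constructible sheaves of modules: subsheaves, quotients; descent along finite direct images.
-/

set_option autoImplicit false
set_option backward.isDefEq.respectTransparency false
set_option backward.isDefEq.respectTransparency.types false
set_option linter.style.haveILetI false
set_option linter.unusedSectionVars false
set_option maxHeartbeats 1000000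

universe u

open CategoryTheory CategoryTheory.Limits AlgebraicGeometry Opposite Topology TopologicalSpace

noncomputable section

namespace Groth.Agent.ConsFinPush

open Groth.Agent.EtTrivGen

variable {Λ : Type (u + 1)} [CommRing Λ]

/-- local constancy on an open covered by a trivialising étale scheme -/
theorem isFTLocConst_pull_range {T : Scheme.{u}} (F : EtModW.Mod Λ T) (V : T.Etale) {M : Type (u + 1)}
    [AddCommGroup M] [Module Λ M] [Module.Finite Λ M] (σ : M →ₗ[Λ] F.obj.obj (op V))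
    (hσ : IsTrivG F V (fun m => σ m)) (O : T.Opens) (hO : (O : Set T) ⊆ Set.range V.hom) :
    EtModW.IsFTLocConst Λ ((EtModW.pull Λ O.ι).obj F) := by
  rw [isFTLocConst_iff]
  intro Ω _ _ θ
  obtain ⟨v, hv⟩ := hO (θ default).2
  obtain ⟨z, -, hz⟩ := Scheme.Pullback.exists_preimage_pullback (f := V.hom) (g := O.ι) v (θ default) hv
  haveI : Etale ((EtCoh.bc O.ι).obj V).hom := ((EtCoh.bc O.ι).obj V).prop
  obtain ⟨l, -⟩ := Scheme.pointSmallEtaleFiberObjToPreimage_surjective θ (s₀ := θ default) rfl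
    ((EtCoh.bc O.ι).obj V) ⟨z, hz⟩
  exact ⟨(EtCoh.bc O.ι).obj V, l, M, inferInstance, inferInstance, inferInstance,
    ((((EtCoh.bc O.ι).sheafAdjunctionContinuous (ModuleCat.{u + 1} Λ) T.smallEtaleTopology
      O.toScheme.smallEtaleTopology).unit.app F).hom.app (op V)).hom.comp σ, hσ.pull O.ι⟩

variable [IsNoetherianRing Λ] {X : Scheme.{u}}

/-- subsheaves of constructible sheaves -/
theorem isConstructible_sub [IsLocallyNoetherian X] {H F : EtModW.Mod Λ X} (ι : H ⟶ F) [Mono ι]
    (hF : EtModW.IsConstructible Λ F) : EtModW.IsConstructible Λ H := by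
  rw [isConstructible_iff_goodAt]
  intro x
  obtain ⟨T, j, hj, hTn, t, rfl, ht, hft⟩ := exists_generic_stratum hF x
  haveI := hj; haveI := hTn
  haveI := RPlusComp.pullMod_preservesFiniteLimits Λ j
  obtain ⟨Ω₀, _, _, ξ, -, hξ⟩ := EtStalk.covers_all (X := T) t
  obtain ⟨U, y, M, _, _, _, σ₀, hσ₀⟩ := (isFTLocConst_iff _).1 hft Ω₀ ξ
  let y₀ : Over.mk ξ ⟶ (Scheme.Etale.forget T).obj U := y
  have hu : U.hom (y₀.left (default : Spec (CommRingCat.of Ω₀))) = t :=
    (congrArg (fun q : Spec (CommRingCat.of Ω₀) ⟶ T => q default) (Over.w y₀)).trans hξ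
  obtain ⟨U', g, u', hu', hgen⟩ := EtCons.exists_irr_nhd ht _ hu
  obtain ⟨y', hy'⟩ := EtTrivGen.exists_point_lift g y₀ ⟨u', hu'⟩
  let y₁ : Over.mk ξ ⟶ (Scheme.Etale.forget T).obj U' := y'
  have hspec : ∀ v : U'.left, y₁.left (default : Spec (CommRingCat.of Ω₀)) ⤳ v := by
    intro v
    haveI : Etale U'.hom := U'.prop
    haveI := EtMV.lqf_of_etale U'.hom
    have e1 : g.left (y₁.left (default : Spec (CommRingCat.of Ω₀))) = g.left u' := by
      rw [hu', ← hy']
      rfl
    have e2 : U'.hom u' = U'.hom (y₁.left (default : Spec (CommRingCat.of Ω₀))) := by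
      rw [← MorphismProperty.Over.w g, Scheme.Hom.comp_apply, Scheme.Hom.comp_apply]
      exact (congrArg U.hom e1).symm
    rw [← EtCons.eq_of_specializes_of_map_eq U'.hom (hgen _) e2]
    exact hgen v
  let σ := (rs ((EtModW.pull Λ j).obj F) g).comp σ₀
  have hσ : IsTrivG ((EtModW.pull Λ j).obj F) U' (fun m => σ m) := hσ₀.rsComap g
  let a := (EtModW.pull Λ j).map ι
  haveI : Mono a := inferInstanceAs (Mono ((EtModW.pull Λ j).map ι))
  let L : Submodule Λ M :=
    (LinearMap.range ((EtModW.stalk Λ ξ).map a).hom).comap ((gm _ y').comp σ)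
  haveI : IsNoetherian Λ M := isNoetherian_of_isNoetherianRing_of_finite Λ M
  obtain ⟨gens, hgens⟩ := IsNoetherian.noetherian L
  obtain ⟨V, b, yV, hyV, hP⟩ := exists_refine gens y' (fun m V b => ∃ e, ap a V e = rs _ b (σ m))
    (fun m V b ⟨e, he⟩ W l => ⟨rs _ l e, by rw [ap_rs, he, rs_rs]⟩)
    (fun m hm V b v hv => by
      obtain ⟨z, hz⟩ : m ∈ L := hgens ▸ Submodule.subset_span hm
      have hz' : (EtModW.stalk Λ ξ).map a z = gm _ v (rs _ b (σ m)) := by
        rw [gm_rs, hv]; exact hz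
      obtain ⟨W, l, w, hw, e, he⟩ := EtTrivGen.exists_lift a v _ z hz'
      exact ⟨W, l, w, hw, e, by rw [he, rs_rs]⟩)
  let S : Submodule Λ M :=
    { carrier := {m | ∃ e, ap a V e = rs _ b (σ m)}
      zero_mem' := ⟨0, by simp only [map_zero]⟩
      add_mem' := fun ⟨p, hp⟩ ⟨q, hq⟩ => ⟨p + q, by simp only [map_add, hp, hq]⟩
      smul_mem' := fun r m ⟨p, hp⟩ => ⟨r • p, by simp only [map_smul, hp]⟩ }
  have hLS : L ≤ S := hgens ▸ Submodule.span_le.2 hP
  choose e he using fun m : L => hLS m.2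
  let el : L →ₗ[Λ] ((EtModW.pull Λ j).obj H).obj.obj (op V) :=
    { toFun := e
      map_add' := fun p q => ap_injective a V (by simp only [map_add, he, Submodule.coe_add])
      map_smul' := fun r p => ap_injective a V (by
        simp only [map_smul, he, Submodule.coe_smul_of_tower, RingHom.id_apply]) }
  have hel : IsTrivG ((EtModW.pull Λ j).obj H) V (fun m => el m) := by
    rw [isTrivG_iff]
    intro Ω' _ _ η x'
    have hσ' := (hσ.rsComap b).bij x'
    have key : ∀ m : L, (EtModW.stalk Λ η).map a (gm _ x' (el m)) =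
        gm ((EtModW.pull Λ j).obj F) x' (rs _ b (σ m)) := fun m => by
      rw [map_gm]
      exact congrArg _ (he m)
    refine ⟨fun p q hpq => ?_, fun z => ?_⟩
    · have h2 := congrArg ((EtModW.stalk Λ η).map a)
        (show gm _ x' (el p) = gm _ x' (el q) from hpq)
      rw [key, key] at h2
      exact Subtype.ext (hσ'.1 h2)
    · obtain ⟨m, hm⟩ := hσ'.2 ((EtModW.stalk Λ η).map a z)
      have hm' : gm ((EtModW.pull Λ j).obj F) x' (rs _ b (σ m)) = (EtModW.stalk Λ η).map a z := hm
      obtain ⟨z₁, hz₁⟩ := mem_range_of_mem_range a y' hspec (σ m)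
        ((Scheme.pointSmallEtale η).fiber.map b x') z (by rw [← gm_rs]; exact hm'.symm)
      exact ⟨⟨m, z₁, hz₁⟩, stalk_injective η a ((key ⟨m, z₁, hz₁⟩).trans hm')⟩
  haveI : Etale V.hom := V.prop
  let O : T.Opens := ⟨Set.range V.hom, (Scheme.Hom.isOpenMap V.hom).isOpen_range⟩
  let yV' : Over.mk ξ ⟶ (Scheme.Etale.forget T).obj V := yV
  have htO : t ∈ O := ⟨yV'.left (default : Spec (CommRingCat.of Ω₀)),
    (congrArg (fun q : Spec (CommRingCat.of Ω₀) ⟶ T => q default) (Over.w yV')).trans hξ⟩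
  haveI : Module.Finite Λ L := Module.Finite.iff_fg.2 (IsNoetherian.noetherian L)
  have hFT : FT H O.toScheme (O.ι ≫ j) :=
    IsFTLocConst.ofIso ((EtSix.pullModComp Λ O.ι j).app H).symm
      (isFTLocConst_pull_range _ V el hel O subset_rfl)
  obtain ⟨D, hD, hxD, -⟩ := EtCons.exists_affine_le (V := (⊤ : X.Opens)) (x := j t) trivial
  haveI : IsAffine D.toScheme := hD
  haveI : IsLocallyNoetherian D.toScheme := LocallyOfFiniteType.isLocallyNoetherian D.ι
  haveI : IsNoetherian D.toScheme := {}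
  haveI : NoetherianSpace (D : Set X) := (inferInstance : NoetherianSpace D.toScheme)
  exact ⟨D, hD, hxD, _, O.ι ≫ j, Subtype.val ⁻¹' Set.range (O.ι ≫ j), inferInstance,
    EtCons.isConstructible_of_lc ((O.ι ≫ j).isLocallyClosed_range.preimage continuous_subtype_val),
    ⟨hxD, ⟨⟨t, htO⟩, rfl⟩⟩, Set.image_preimage_subset _ _, hFT⟩

/-- quotients of constructible sheaves -/
theorem isConstructible_quotient [IsLocallyNoetherian X] {F Q : EtModW.Mod Λ X} (π : F ⟶ Q) [Epi π]
    (hF : EtModW.IsConstructible Λ F) : EtModW.IsConstructible Λ Q := by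
  have hk := isConstructible_sub (kernel.ι π) hF
  exact IsConstructible.ofIso
    ((cokernelIsCokernel (kernel.ι π)).coconePointUniqueUpToIso
      (Abelian.epiIsCokernelOfKernel _ (limit.isLimit (parallelPair π 0))))
    (isConstructible_kernel_cokernel (kernel.ι π) hk hF).2

omit [IsNoetherianRing Λ] in
/-- the counit is an epimorphism -/
theorem epi_counit {Y : Scheme.{u}} (f : X ⟶ Y) [IsIntegralHom f] (F : EtModW.Mod Λ X) :
    Epi (((EtCoh.bc f).sheafAdjunctionContinuous (ModuleCat.{u + 1} Λ) Y.smallEtaleTopology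
      X.smallEtaleTopology).counit.app F) := by
  let adj := (EtCoh.bc f).sheafAdjunctionContinuous (ModuleCat.{u + 1} Λ) Y.smallEtaleTopology X.smallEtaleTopology
  have htri : ∀ (V : Y.Etale) (t : ((EtModW.push Λ f).obj F).obj.obj (op V)),
      ap (adj.counit.app F) ((EtCoh.bc f).obj V)
        (((adj.unit.app ((EtModW.push Λ f).obj F)).hom.app (op V)) t) = t := fun V t =>
    congr($(congrArg (fun φ : (EtModW.push Λ f).obj F ⟶ (EtModW.push Λ f).obj F => φ.hom.app (op V))
      (adj.right_triangle_components F)) t)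
  haveI : Sheaf.IsLocallySurjective (adj.counit.app F) := by
    refine EtStalk.isLocallySurjective_of_stalk _ fun Ω _ _ ξ z => ?_
    obtain ⟨U, w, s, rfl⟩ := exists_gm F z
    let Fab : EtCoh.Ab X := (EtModD.forgetToAb Λ X).obj F
    obtain ⟨q, hq⟩ := EtIntegralBC.surjective_stalkPushLift f (ξ ≫ f) Fab ⟨ξ, rfl⟩
      ((Scheme.pointSmallEtale ξ).toPresheafFiber U w Fab.obj s)
    obtain ⟨V, v₀, t, rfl⟩ := (Scheme.pointSmallEtale (ξ ≫ f)).toPresheafFiber_jointly_surjective
      (P := ((EtCoh.push f).obj Fab).obj) q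
    let v : Over.mk (ξ ≫ f) ⟶ (Scheme.Etale.forget Y).obj V := v₀
    rw [EtIntegral.stalkPushLift_germ f (ξ ≫ f) Fab ⟨ξ, rfl⟩ V v t] at hq
    let P := (EtCoh.bc f).obj V
    let up : (Scheme.pointSmallEtale ξ).fiber.obj P :=
      EtPushStalk.up f ξ (Over.homMk v.left ((Over.w v).trans rfl))
    obtain ⟨W, g₁, g₂, w', h₁, h₂⟩ := EtTrivGen.exists_common up w
    have h3 : (Scheme.pointSmallEtale ξ).toPresheafFiber W w' Fab.obj (Fab.obj.map g₁.op t) =
        (Scheme.pointSmallEtale ξ).toPresheafFiber W w' Fab.obj (Fab.obj.map g₂.op s) := by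
      rw [GrothendieckTopology.Point.toPresheafFiber_w_apply, GrothendieckTopology.Point.toPresheafFiber_w_apply,
        h₁, h₂]
      exact hq
    obtain ⟨W', k, w'', hw'', hk⟩ := ((Scheme.pointSmallEtale ξ).toPresheafFiber_eq_iff' _ _ _ _).mp h3
    have hk' : rs F k (rs F g₁ t) = rs F k (rs F g₂ s) := hk
    refine ⟨gm _ up ((adj.unit.app ((EtModW.push Λ f).obj F)).hom.app (op V) t), ?_⟩
    refine (map_gm (adj.counit.app F) up _).trans ?_
    rw [htri]
    have := congrArg (gm F w'') hk'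
    rwa [gm_rs, gm_rs, hw'', h₁, gm_rs, gm_rs, hw'', h₂] at this
  exact inferInstance

/-- constructibility descends along finite direct images -/
theorem isConstructible_of_push [IsLocallyNoetherian X] {Y : Scheme.{u}} (f : X ⟶ Y) [IsIntegralHom f]
    (F : EtModW.Mod Λ X) (hF : EtModW.IsConstructible Λ ((EtModW.push Λ f).obj F)) :
    EtModW.IsConstructible Λ F :=
  haveI := epi_counit f F
  isConstructible_quotient (((EtCoh.bc f).sheafAdjunctionContinuous (ModuleCat.{u + 1} Λ) Y.smallEtaleTopology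
    X.smallEtaleTopology).counit.app F) (isConstructible_pull f hF)

end Groth.Agent.ConsFinPush
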